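import Mathlib

/-!
Arithmetic for orders of nilpotent permutation groups: the 2-part of `n!` against products of
`p`-parts of `(n_p)!`.
-/

set_option autoImplicit false

namespace CfsgLib.NilPerm

open Nat

/-- The exponent of 2 in `n!`. -/
abbrev v2f (n : ℕ) : ℕ := padicValNat 2 n.factorial

theorem v2f_two_mul (k : ℕ) : v2f (2 * k) = v2f k + k := padicValNat_factorial_mul k

theorem v2f_two_mul_add (k : ℕ) : v2f (2 * k + 1) = v2f k + k := by
  rw [v2f, padicValNat_factorial_mul_add (p := 2) k (by omega : (1 : ℕ) < 2)]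
  exact v2f_two_mul k

theorem v2f_eq (n : ℕ) : v2f n = v2f (n / 2) + n / 2 := by
  rcases Nat.even_or_odd' n with ⟨k, rfl | rfl⟩
  · rw [v2f_two_mul, Nat.mul_div_cancel_left k (by omega)]
  · rw [v2f_two_mul_add, show (2 * k + 1) / 2 = k by omega]

/-- Kernel-computable form of `v2f`. -/
def v2fC : ℕ → ℕ
  | n => if h : n = 0 then 0 else v2fC (n / 2) + n / 2
termination_by n => n
decreasing_by omega

theorem v2f_eq_C (n : ℕ) : v2f n = v2fC n := by
  induction n using Nat.strong_induction_on with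
  | _ n ih =>
    rw [v2fC]
    split_ifs with h
    · subst h; simp [v2f]
    · rw [v2f_eq, ih _ (by omega)]

theorem v2f_add_le (a b : ℕ) : v2f a + v2f b ≤ v2f (a + b) := by
  have h := Nat.factorial_mul_factorial_dvd_factorial_add a b
  have h2 := (padicValNat_dvd_iff_le (p := 2) (Nat.factorial_ne_zero (a + b))).mp
    (pow_padicValNat_dvd.trans h)
  rw [padicValNat.mul (Nat.factorial_ne_zero a) (Nat.factorial_ne_zero b)] at h2
  exact h2

/-- The coefficient of `bound`, by degree modulo 4. -/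
def coef (r : ℕ) : ℕ := if r = 3 then 3 else if r = 2 then 2 else 1

/-- The largest order of a nilpotent group of degree `n`. -/
def bound (n : ℕ) : ℕ := coef (n % 4) * 2 ^ (3 * (n / 4) + v2f (n / 4))

theorem v2f_four (n : ℕ) :
    v2f n = 3 * (n / 4) + v2f (n / 4) + if n % 4 < 2 then 0 else 1 := by
  rw [v2f_eq n, v2f_eq (n / 2), show n / 2 / 2 = n / 4 by omega]
  split_ifs <;> omega

theorem bound_eq {n : ℕ} (h : n % 4 ≠ 3) : bound n = 2 ^ v2f n := by
  have h4 := Nat.mod_lt n (show 4 > 0 by omega)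
  rw [v2f_four n]
  unfold bound
  rcases (show n % 4 = 0 ∨ n % 4 = 1 ∨ n % 4 = 2 by omega) with h' | h' | h' <;>
    simp [coef, h', pow_add, mul_comm]

theorem pow_le_bound (n : ℕ) : 2 ^ v2f n ≤ bound n := by
  by_cases h : n % 4 = 3
  · rw [v2f_four n]
    unfold bound
    simp only [h, pow_add, coef]
    norm_num
    have : 0 < 2 ^ (3 * (n / 4)) * 2 ^ v2f (n / 4) := by positivity
    nlinarith
  · exact (bound_eq h).ge

theorem bound_mul_le (a b : ℕ) : bound a * bound b ≤ bound (a + b) := by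
  have hsup := v2f_add_le (a / 4) (b / 4)
  have ha := Nat.mod_lt a (show 4 > 0 by omega)
  have hb := Nat.mod_lt b (show 4 > 0 by omega)
  obtain ⟨i, hi⟩ : ∃ i, i = a / 4 := ⟨_, rfl⟩
  obtain ⟨j, hj⟩ : ∃ j, j = b / 4 := ⟨_, rfl⟩
  rw [← hi, ← hj] at hsup
  have key : ∀ (e₁ e₂ e₃ c : ℕ), e₁ * e₂ ≤ e₃ * 2 ^ (3 * c) →
      e₁ * 2 ^ (3 * i + v2f i) * (e₂ * 2 ^ (3 * j + v2f j)) ≤
        e₃ * 2 ^ (3 * (i + j + c) + v2f (i + j + c)) := by
    intro e₁ e₂ e₃ c h
    have h1 : v2f (i + j) ≤ v2f (i + j + c) :=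
      le_trans (Nat.le_add_right _ _) (v2f_add_le (i + j) c)
    calc e₁ * 2 ^ (3 * i + v2f i) * (e₂ * 2 ^ (3 * j + v2f j))
        = (e₁ * e₂) * 2 ^ (3 * i + v2f i + (3 * j + v2f j)) := by rw [pow_add 2 (3 * i + v2f i)]; ring
      _ ≤ e₃ * 2 ^ (3 * c) * 2 ^ (3 * i + v2f i + (3 * j + v2f j)) := Nat.mul_le_mul_right _ h
      _ = e₃ * 2 ^ (3 * c + (3 * i + v2f i + (3 * j + v2f j))) := by rw [mul_assoc, ← pow_add]
      _ ≤ _ := Nat.mul_le_mul_left _ (Nat.pow_le_pow_right (by omega) (by omega))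
  unfold bound
  rw [← hi, ← hj]
  rcases (show a % 4 = 0 ∨ a % 4 = 1 ∨ a % 4 = 2 ∨ a % 4 = 3 by omega) with h | h | h | h <;>
    rcases (show b % 4 = 0 ∨ b % 4 = 1 ∨ b % 4 = 2 ∨ b % 4 = 3 by omega) with h' | h' | h' | h' <;>
    (first
      | (have e : (a + b) / 4 = i + j + 0 := by omega
         have e' : (a + b) % 4 = a % 4 + b % 4 := by omega
         simp only [e, e', h, h', coef]
         exact key _ _ _ 0 (by norm_num))
      | (have e : (a + b) / 4 = i + j + 1 := by omega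
         have e' : (a + b) % 4 = a % 4 + b % 4 - 4 := by omega
         simp only [e, e', h, h', coef]
         exact key _ _ _ 1 (by norm_num)))

/-- The bound on a transitive nilpotent group. -/
def transBound (n : ℕ) : ℕ :=
  ∏ p ∈ (Finset.range (n + 1)).filter Nat.Prime,
    Nat.gcd (Nat.gcd n (p ^ n)).factorial (p ^ n)

theorem gcd_pow_eq {n p : ℕ} (hp : p.Prime) (hn : n ≠ 0) :
    Nat.gcd n (p ^ n) = p ^ n.factorization p := by
  obtain ⟨k, -, hk⟩ := (Nat.dvd_prime_pow hp).mp (Nat.gcd_dvd_right n (p ^ n))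
  refine Nat.dvd_antisymm ?_ (Nat.dvd_gcd (Nat.ordProj_dvd n p)
    (pow_dvd_pow p (Nat.factorization_lt p hn).le))
  rw [hk]
  refine pow_dvd_pow p ?_
  exact (Nat.Prime.pow_dvd_iff_le_factorization hp hn).mp (hk ▸ Nat.gcd_dvd_left n (p ^ n))

theorem gcd_factorial_eq {n p q : ℕ} (hp : p.Prime) (hq : q ≤ n) :
    Nat.gcd q.factorial (p ^ n) = p ^ padicValNat p q.factorial := by
  haveI := Fact.mk hp
  have hle : padicValNat p q.factorial ≤ n := by
    rcases Nat.eq_zero_or_pos q with rfl | hq0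
    · simp
    · have h := sub_one_mul_padicValNat_factorial (p := p) q
      have h1 : 1 ≤ p - 1 := by have := hp.two_le; omega
      calc padicValNat p q.factorial = 1 * padicValNat p q.factorial := (one_mul _).symm
        _ ≤ (p - 1) * padicValNat p q.factorial := Nat.mul_le_mul_right _ h1
        _ ≤ q := by rw [h]; omega
        _ ≤ n := hq
  obtain ⟨k, -, hk⟩ := (Nat.dvd_prime_pow hp).mp (Nat.gcd_dvd_right q.factorial (p ^ n))
  refine Nat.dvd_antisymm ?_ (Nat.dvd_gcd pow_padicValNat_dvd (pow_dvd_pow p hle))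
  rw [hk]
  exact pow_dvd_pow p ((padicValNat_dvd_iff_le (Nat.factorial_ne_zero q)).mp
    (hk ▸ Nat.gcd_dvd_left _ _))

theorem sum_sub_one_le {ι : Type*} (s : Finset ι) (f : ι → ℕ) (hf : ∀ i ∈ s, 1 ≤ f i) :
    ∑ i ∈ s, (f i - 1) + 1 ≤ ∏ i ∈ s, f i := by
  classical
  induction s using Finset.induction_on with
  | empty => simp
  | @insert a s ha ih =>
    have h1 := hf a (Finset.mem_insert_self a s)
    have h2 := ih fun i hi => hf i (Finset.mem_insert_of_mem hi)
    rw [Finset.sum_insert ha, Finset.prod_insert ha]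
    obtain ⟨x, hx⟩ : ∃ x, f a = x + 1 := ⟨f a - 1, by omega⟩
    rw [hx, Nat.add_sub_cancel]
    have : x * 1 ≤ x * ∏ i ∈ s, f i := Nat.mul_le_mul_left x (by omega)
    rw [add_mul, one_mul]
    omega

theorem factor_sq_le {p q : ℕ} (hp : p.Prime) (hp3 : 3 ≤ p) (hq : 1 ≤ q) :
    (p ^ padicValNat p q.factorial) ^ 2 ≤ 3 ^ (q - 1) := by
  haveI := Fact.mk hp
  have hbase : ∀ m, 3 ≤ m → m ^ 2 ≤ 3 ^ (m - 1) := by
    intro m hm
    induction m, hm using Nat.le_induction with
    | base => norm_num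
    | succ k hk ih =>
      rw [show k + 1 - 1 = k - 1 + 1 by omega, pow_succ 3]
      nlinarith
  calc (p ^ padicValNat p q.factorial) ^ 2 = (p ^ 2) ^ padicValNat p q.factorial := by
        rw [← pow_mul, ← pow_mul, mul_comm]
    _ ≤ (3 ^ (p - 1)) ^ padicValNat p q.factorial := Nat.pow_le_pow_left (hbase p hp3) _
    _ = 3 ^ (q - (p.digits q).sum) := by rw [← pow_mul, sub_one_mul_padicValNat_factorial]
    _ ≤ 3 ^ (q - 1) := by
        refine Nat.pow_le_pow_right (by omega) (Nat.sub_le_sub_left ?_ _)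
        by_contra h
        have hz : (p.digits q).sum = 0 := by omega
        have hne : q ≠ 0 := by omega
        have hmem := List.getLast_mem (Nat.digits_ne_nil_iff_ne_zero.mpr hne) (l := p.digits q)
        exact Nat.getLast_digit_ne_zero p hne (List.sum_eq_zero_iff.mp hz _ hmem)

theorem odd_part_le {n : ℕ} (hn : n ≠ 0) :
    (∏ p ∈ n.primeFactors.erase 2, p ^ padicValNat p (p ^ n.factorization p).factorial) ^ 2 ≤
      3 ^ (n / 2 ^ n.factorization 2 - 1) := by
  rw [← Finset.prod_pow]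
  calc ∏ p ∈ n.primeFactors.erase 2, (p ^ padicValNat p (p ^ n.factorization p).factorial) ^ 2
      ≤ ∏ p ∈ n.primeFactors.erase 2, 3 ^ (p ^ n.factorization p - 1) := by
        refine Finset.prod_le_prod' fun p hp => ?_
        obtain ⟨h2, hp'⟩ := Finset.mem_erase.mp hp
        have hpp := Nat.prime_of_mem_primeFactors hp'
        exact factor_sq_le hpp (by have := hpp.two_le; omega) (Nat.one_le_pow _ _ hpp.pos)
    _ = 3 ^ (∑ p ∈ n.primeFactors.erase 2, (p ^ n.factorization p - 1)) :=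
        Finset.prod_pow_eq_pow_sum _ _ _
    _ ≤ _ := by
        refine Nat.pow_le_pow_right (by omega) ?_
        have h1 := sum_sub_one_le (n.primeFactors.erase 2) (fun p => p ^ n.factorization p)
          fun p hp => Nat.one_le_pow _ _ (Nat.pos_of_mem_primeFactors (Finset.mem_of_mem_erase hp))
        have h2 : ∏ p ∈ n.primeFactors.erase 2, p ^ n.factorization p =
            n / 2 ^ n.factorization 2 := by
          have hfull : ∏ p ∈ n.primeFactors, p ^ n.factorization p = n := by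
            conv_rhs => rw [← Nat.factorization_prod_pow_eq_self hn]
            rfl
          by_cases h : 2 ∈ n.primeFactors
          · rw [← Finset.mul_prod_erase _ _ h] at hfull
            conv_rhs => arg 1; rw [← hfull]
            rw [Nat.mul_div_cancel_left _ (Nat.two_pow_pos _)]
          · rw [Finset.erase_eq_of_notMem h, hfull]
            have : n.factorization 2 = 0 :=
              Finsupp.notMem_support_iff.mp (by rwa [Nat.support_factorization])
            simp [this]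
        omega

theorem transBound_eq {n : ℕ} (hn : n ≠ 0) :
    transBound n = ∏ p ∈ n.primeFactors, p ^ padicValNat p (p ^ n.factorization p).factorial := by
  unfold transBound
  refine (Finset.prod_subset ?_ ?_).symm.trans (Finset.prod_congr rfl ?_)
  · intro p hp
    exact Finset.mem_filter.mpr ⟨Finset.mem_range.mpr (Nat.lt_succ_of_le
      (Nat.le_of_mem_primeFactors hp)), Nat.prime_of_mem_primeFactors hp⟩
  · intro p hp hnot
    have hpp := (Finset.mem_filter.mp hp).2
    rw [gcd_pow_eq hpp hn, Finsupp.notMem_support_iff.mp (by rwa [Nat.support_factorization])]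
    simp
  · intro p hp
    have hpp := Nat.prime_of_mem_primeFactors hp
    rw [gcd_pow_eq hpp hn, gcd_factorial_eq hpp (Nat.le_of_dvd (by omega) (Nat.ordProj_dvd n p))]

theorem v2f_two_pow_mul (a m : ℕ) : v2f (2 ^ a * m) = v2f m + (2 ^ a - 1) * m := by
  induction a with
  | zero => simp
  | succ a ih =>
    rw [pow_succ', mul_assoc, v2f_two_mul, ih, add_assoc]
    congr 1
    have h : 1 ≤ 2 ^ a := Nat.one_le_two_pow
    rw [show 2 * 2 ^ a - 1 = (2 ^ a - 1) + 2 ^ a by omega, add_mul]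

theorem v2f_lower : ∀ n, 16 ≤ n → 4 * n + 1 ≤ 5 * v2f n := by
  intro n
  induction n using Nat.strong_induction_on with
  | _ n ih =>
    intro hn
    by_cases h : n < 32
    · rw [v2f_eq_C]
      have : ∀ m < 32, 16 ≤ m → 4 * m + 1 ≤ 5 * v2fC m := by decide +kernel
      exact this n h hn
    · have := ih (n / 2) (by omega) (by omega)
      rw [v2f_eq n]
      omega

theorem pow_three_le {n k : ℕ} (h : 4 * n ≤ 5 * k) : 3 ^ n ≤ 4 ^ k := by
  refine (Nat.pow_le_pow_iff_left (show 5 ≠ 0 by omega)).mp ?_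
  calc (3 ^ n) ^ 5 = (3 ^ 5) ^ n := by rw [← pow_mul, ← pow_mul, mul_comm]
    _ ≤ (4 ^ 4) ^ n := Nat.pow_le_pow_left (by norm_num) n
    _ = 4 ^ (4 * n) := by rw [← pow_mul]
    _ ≤ 4 ^ (5 * k) := Nat.pow_le_pow_right (by norm_num) h
    _ = (4 ^ k) ^ 5 := by rw [← pow_mul, mul_comm]

/-- An odd degree: `transBound n ^ 2 ≤ 3 ^ (n - 1)`. -/
theorem transBound_odd {n : ℕ} (hn : Odd n) : transBound n ^ 2 ≤ 3 ^ (n - 1) := by
  have h2 : 2 ∉ n.primeFactors := fun h =>
    (Nat.not_even_iff_odd.mpr hn) (even_iff_two_dvd.mpr (Nat.dvd_of_mem_primeFactors h))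
  have hn0 : n ≠ 0 := by rintro rfl; simp at hn
  have := odd_part_le hn0
  rw [Finset.erase_eq_of_notMem h2, ← transBound_eq hn0,
    Nat.factorization_eq_zero_of_not_dvd (by rw [← even_iff_two_dvd]; exact Nat.not_even_iff_odd.mpr hn)] at this
  simpa using this

theorem transBound_le {n : ℕ} (hn : n ≠ 0) : transBound n ≤ bound n := by
  by_cases hev : 2 ∣ n
  · refine le_trans ?_ (pow_le_bound n)
    have hmem : 2 ∈ n.primeFactors := Nat.mem_primeFactors.mpr ⟨Nat.prime_two, hev, hn⟩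
    rw [transBound_eq hn, ← Finset.mul_prod_erase _ _ hmem]
    set a := n.factorization 2
    set m := n / 2 ^ a
    have hnm : n = 2 ^ a * m := (Nat.ordProj_mul_ordCompl_eq_self n 2).symm
    have ha : 1 ≤ a := Nat.Prime.factorization_pos_of_dvd Nat.prime_two hn hev
    have hodd := odd_part_le hn
    have h1 : padicValNat 2 (2 ^ a).factorial = 2 ^ a - 1 := by
      have := v2f_two_pow_mul a 1
      simpa [v2f] using this
    rw [h1]
    have h3 : ∏ p ∈ n.primeFactors.erase 2, p ^ padicValNat p (p ^ n.factorization p).factorial ≤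
        2 ^ (m - 1) := by
      refine (Nat.pow_le_pow_iff_left (show 2 ≠ 0 by omega)).mp (hodd.trans ?_)
      rw [← pow_mul, mul_comm, pow_mul]
      exact Nat.pow_le_pow_left (by norm_num) _
    refine le_trans (Nat.mul_le_mul_left _ h3) ?_
    rw [← pow_add]
    refine Nat.pow_le_pow_right (by omega) ?_
    conv_rhs => rw [hnm, v2f_two_pow_mul]
    have hm : 1 ≤ m := by
      rcases Nat.eq_zero_or_pos m with h | h
      · rw [h, mul_zero] at hnm; omega
      · exact h
    obtain ⟨x, hx⟩ : ∃ x, 2 ^ a - 1 = x + 1 := ⟨2 ^ a - 2, by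
      have : 2 ^ 1 ≤ 2 ^ a := Nat.pow_le_pow_right (by omega) ha
      omega⟩
    obtain ⟨y, hy⟩ : ∃ y, m = y + 1 := ⟨m - 1, by omega⟩
    have hexp : (x + 1) * m = x * y + x + y + 1 := by rw [hy]; ring
    rw [hx, hexp]
    omega
  · have hodd : Odd n := Nat.not_even_iff_odd.mp (by rwa [even_iff_two_dvd])
    by_cases h16 : n < 16
    · unfold bound
      rw [v2f_eq_C]
      have : ∀ m < 16, m % 2 = 1 → transBound m ≤
          coef (m % 4) * 2 ^ (3 * (m / 4) + v2fC (m / 4)) := by decide +kernel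
      exact this n h16 (Nat.odd_iff.mp hodd)
    · refine le_trans ?_ (pow_le_bound n)
      refine (Nat.pow_le_pow_iff_left (show 2 ≠ 0 by omega)).mp ((transBound_odd hodd).trans ?_)
      rw [← pow_mul, mul_comm, pow_mul]
      have := v2f_lower n (by omega)
      exact pow_three_le (by omega)

/-- Degree at most 15, odd order. -/
def oddTable (n : ℕ) : ℕ := [1, 1, 1, 3, 3, 5, 9, 9, 15, 81, 81, 81, 243, 243, 405, 729].getD n 0

theorem oddTable_mul {a b : ℕ} (h : a + b < 16) :
    oddTable a * oddTable b ≤ oddTable (a + b) := by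
  have : ∀ x < 16, ∀ y < 16, x + y < 16 → oddTable x * oddTable y ≤ oddTable (x + y) := by
    decide +kernel
  exact this a (by omega) b (by omega) h

theorem oddTable_trans {n : ℕ} (h : n < 16) (hn : Odd n) : transBound n ≤ oddTable n := by
  have : ∀ x < 16, x % 2 = 1 → transBound x ≤ oddTable x := by decide +kernel
  exact this n h (Nat.odd_iff.mp hn)

theorem oddTable_half {n : ℕ} (h : n < 16) (h2 : 2 ≤ n) (h4 : n % 4 ≠ 3) (h5 : n ≠ 5)
    (h6 : n ≠ 6) (h9 : n ≠ 9) : 2 * oddTable n ≤ 2 ^ v2f n := by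
  rw [v2f_eq_C]
  have : ∀ m < 16, (2 ≤ m ∧ m % 4 ≠ 3 ∧ m ≠ 5 ∧ m ≠ 6 ∧ m ≠ 9) →
      2 * oddTable m ≤ 2 ^ v2fC m := by decide +kernel
  exact this n h ⟨h2, h4, h5, h6, h9⟩

theorem half_of_sq {n x : ℕ} (hn : 16 ≤ n) (hx : x ^ 2 ≤ 3 ^ (n - 1)) : 2 * x ≤ 2 ^ v2f n := by
  refine (Nat.pow_le_pow_iff_left (show 2 ≠ 0 by omega)).mp ?_
  have hv := v2f_lower n hn
  calc (2 * x) ^ 2 = 4 * x ^ 2 := by ring
    _ ≤ 4 * 3 ^ (n - 1) := Nat.mul_le_mul_left 4 hx
    _ ≤ 4 * 4 ^ (v2f n - 1) := Nat.mul_le_mul_left 4 (pow_three_le (by omega))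
    _ = 4 ^ (v2f n) := (pow_succ' 4 _).symm.trans (congrArg (4 ^ ·) (by omega))
    _ = (2 ^ v2f n) ^ 2 := by rw [← pow_mul, mul_comm, pow_mul]; norm_num

end CfsgLib.NilPerm
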