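import Cfsg.Agent.Lib.NilPerm.Group

/-!
The nilpotent subgroups of largest order of `S_n` and `A_n` for `n ≡ 3 (mod 4)`.
-/

set_option autoImplicit false

namespace CfsgLib.NilPerm

open Equiv

theorem v2f_mono {a b : ℕ} (h : a ≤ b) : v2f a ≤ v2f b := by
  obtain ⟨c, rfl⟩ := Nat.exists_eq_add_of_le h
  exact le_trans (Nat.le_add_right _ _) (v2f_add_le a c)

theorem v2f_drop {m : ℕ} (h4 : m % 4 = 0) (hm : 4 ≤ m) : v2f (m - 1) + 2 ≤ v2f m := by
  have hf : m.factorial = m * (m - 1).factorial := (Nat.mul_factorial_pred (by omega)).symm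
  have h2 : 2 ≤ padicValNat 2 m := by
    rw [← padicValNat_dvd_iff_le (by omega)]
    exact Nat.dvd_of_mod_eq_zero h4
  rw [v2f, v2f, hf, padicValNat.mul (by omega) (Nat.factorial_ne_zero _)]
  omega

theorem bound_eq_three {n : ℕ} (h : n % 4 = 3) : bound n = 3 * 2 ^ v2f (n - 3) := by
  rw [v2f_four (n - 3)]
  unfold bound
  rw [h, show (n - 3) % 4 = 0 by omega, show (n - 3) / 4 = n / 4 by omega]
  simp [coef]

theorem card_sylow_perm (m : ℕ) (P : Sylow 2 (Perm (Fin m))) : Nat.card P = 2 ^ v2f m := by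
  rw [P.card_eq_multiplicity, Nat.card_perm, Nat.card_fin, Nat.factorization_def _ Nat.prime_two]

theorem card_sylow_alt {m : ℕ} (hm : 2 ≤ m) (P : Sylow 2 (alternatingGroup (Fin m))) :
    2 * Nat.card P = 2 ^ v2f m := by
  haveI : Nontrivial (Fin m) := Fin.nontrivial_iff_two_le.mpr hm
  have hA : 2 * Nat.card (alternatingGroup (Fin m)) = m.factorial := by
    have := two_mul_card_alternatingGroup (α := Fin m)
    rw [← Nat.card_eq_fintype_card] at this
    rw [this, Fintype.card_perm, Fintype.card_fin]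
  rw [P.card_eq_multiplicity, v2f, ← Nat.factorization_def _ Nat.prime_two, ← hA,
    Nat.factorization_mul two_ne_zero Nat.card_pos.ne', Finsupp.add_apply,
    Nat.prime_two.factorization_self, pow_add, pow_one]

theorem alt_bound_three {n : ℕ} (hn : n % 4 = 3) (h7 : 7 ≤ n)
    (N : Subgroup (alternatingGroup (Fin n))) (hN : Group.IsNilpotent N)
    (P : Sylow 2 (alternatingGroup (Fin (n - 3)))) : Nat.card N ≤ 3 * Nat.card P := by
  have hP := card_sylow_alt (by omega) P
  set N' := N.map (alternatingGroup (Fin n)).subtype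
  have hc : Nat.card N' = Nat.card N :=
    Subgroup.card_map_of_injective (alternatingGroup (Fin n)).subtype_injective
  haveI := hN
  have hN' : Group.IsNilpotent N' :=
    Group.nilpotent_of_mulEquiv (N.equivMapOfInjective _ (alternatingGroup (Fin n)).subtype_injective)
  obtain ⟨-, he, ho⟩ := good n (Fintype.card_fin n) N' hN'
  rw [hc] at he ho
  have hev : ∀ g ∈ N', Equiv.Perm.sign g = 1 := by
    rintro _ ⟨g, -, rfl⟩
    exact g.2
  have key : 2 * Nat.card N ≤ bound n := by
    by_cases hpar : 2 ∣ Nat.card N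
    · exact he hev hpar
    · obtain ⟨hs, ht⟩ := ho (Nat.not_even_iff_odd.mp (by rwa [even_iff_two_dvd]))
      by_cases h16 : n < 16
      · refine (Nat.mul_le_mul_left 2 (ht h16)).trans ?_
        rw [bound_eq_three hn, v2f_eq_C]
        have : ∀ m < 16, (7 ≤ m ∧ m % 4 = 3) → 2 * oddTable m ≤ 3 * 2 ^ v2fC (m - 3) := by
          decide +kernel
        exact this n h16 ⟨h7, hn⟩
      · exact (half_of_sq (by omega) hs).trans (pow_le_bound n)
  rw [bound_eq_three hn, ← hP] at key
  omega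

section Embed

variable {n : ℕ}

/-- The 3-cycle of `Fin 3`. -/
def rot : Perm (Fin 3) := finRotate 3

theorem rot_cube : rot ^ 3 = 1 := by decide

/-- `C₃` acting on three points. -/
noncomputable def cthree : Multiplicative (ZMod 3) →* Perm (Fin 3) where
  toFun i := rot ^ (Multiplicative.toAdd i).val
  map_one' := by simp
  map_mul' a b := by
    rw [← pow_add, toAdd_mul, ZMod.val_add, ← pow_mod_orderOf rot (_ + _)]
    rw [show orderOf rot = 3 from orderOf_eq_prime rot_cube (by decide)]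

theorem cthree_injective : Function.Injective cthree := by
  intro a b h
  have h3 : ∀ i < 3, ∀ j < 3, rot ^ i = rot ^ j → i = j := by decide
  have := h3 _ (ZMod.val_lt _) _ (ZMod.val_lt _) h
  exact Multiplicative.toAdd.injective (ZMod.val_injective 3 this)

/-- `S_{n-3} × C₃` inside `S_n`. -/
noncomputable def emb (h : n - 3 + 3 = n) :
    Perm (Fin (n - 3)) × Multiplicative (ZMod 3) →* Perm (Fin n) :=
  ((finSumFinEquiv.trans (finCongr h)).permCongrHom.toMonoidHom.comp
    (Equiv.Perm.sumCongrHom (Fin (n - 3)) (Fin 3))).comp ((MonoidHom.id _).prodMap cthree)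

theorem emb_injective (h : n - 3 + 3 = n) : Function.Injective (emb h) := by
  intro a b e
  have h1 := Equiv.Perm.sumCongrHom_injective
    ((finSumFinEquiv.trans (finCongr h)).permCongrHom.injective e)
  obtain ⟨h2, h3⟩ := Prod.ext_iff.mp h1
  exact Prod.ext h2 (cthree_injective h3)

theorem sign_emb (h : n - 3 + 3 = n) (p : Perm (Fin (n - 3)) × Multiplicative (ZMod 3)) :
    Equiv.Perm.sign (emb h p) = Equiv.Perm.sign p.1 := by
  show Equiv.Perm.sign ((finSumFinEquiv.trans (finCongr h)).permCongr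
    (Equiv.Perm.sumCongr p.1 (cthree p.2))) = _
  rw [Equiv.Perm.sign_permCongr, Equiv.Perm.sign_sumCongr]
  have : Equiv.Perm.sign (cthree p.2) = 1 := by
    show Equiv.Perm.sign (rot ^ _) = 1
    rw [map_pow, show Equiv.Perm.sign rot = 1 by decide, one_pow]
  rw [this, mul_one]

/-- The chosen 3-cycle. -/
noncomputable def x₀ (h : n - 3 + 3 = n) : Perm (Fin n) := emb h (1, Multiplicative.ofAdd 1)

theorem x₀_threeCycle (h : n - 3 + 3 = n) : (x₀ h).IsThreeCycle := by
  rw [← card_support_eq_three_iff]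
  have h1 : Fintype.card (Fin n) = n := Fintype.card_fin n
  show ((finSumFinEquiv.trans (finCongr h)).permCongr
    (Equiv.Perm.sumCongr (1 : Perm (Fin (n - 3))) (cthree (Multiplicative.ofAdd 1)))).support.card = 3
  set e := finSumFinEquiv.trans (finCongr h)
  have hs : (e.permCongr (Equiv.Perm.sumCongr (1 : Perm (Fin (n - 3)))
      (cthree (Multiplicative.ofAdd 1)))).support =
      (Finset.univ : Finset (Fin 3)).map
        ⟨fun i => e (Sum.inr i), fun i j hij => Sum.inr_injective (e.injective hij)⟩ := by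
    ext y
    obtain ⟨z, rfl⟩ := e.surjective y
    have h3 : ∀ i : Fin 3, cthree (Multiplicative.ofAdd 1) i ≠ i := by
      intro i
      show (rot ^ ((1 : ZMod 3)).val) i ≠ i
      revert i
      decide
    rw [Equiv.Perm.mem_support, Equiv.permCongr_apply, Equiv.symm_apply_apply, e.injective.ne_iff,
      Finset.mem_map]
    rcases z with z | z
    · refine iff_of_false (fun h => h (by simp)) ?_
      rintro ⟨i, -, hi⟩
      exact Sum.inr_ne_inl (e.injective hi)
    · exact iff_of_true (fun h => h3 z (Sum.inr_injective h)) ⟨z, Finset.mem_univ _, rfl⟩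
  rw [hs, Finset.card_map, Finset.card_univ, Fintype.card_fin]

theorem emb_commute (h : n - 3 + 3 = n) (p : Perm (Fin (n - 3)) × Multiplicative (ZMod 3)) :
    emb h p * x₀ h = x₀ h * emb h p := by
  rw [x₀, ← map_mul, ← map_mul]
  congr 1
  exact Prod.ext (by simp) (mul_comm _ _)

theorem card_centralizer_three {x : Perm (Fin n)} (hx : x.IsThreeCycle) :
    Nat.card (Subgroup.centralizer ({x} : Set (Perm (Fin n)))) = 3 * (n - 3).factorial := by
  rw [Equiv.Perm.nat_card_centralizer x, hx.cycleType]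
  simp [mul_comm]

/-- Shape of a nilpotent group of order `3 * 2 ^ w` with large `w`. -/
theorem exists_shape (N : Subgroup (Perm (Fin n))) (hN : Group.IsNilpotent N) (w : ℕ)
    (hc : Nat.card N = 3 * 2 ^ w) (hw : ∀ r, 2 ≤ r → 3 * r ≤ n → v2f (n - 2 * r) < w) :
    ∃ x : Perm (Fin n), x.IsThreeCycle ∧ ∃ Q : Subgroup (Perm (Fin n)),
      IsPGroup 2 Q ∧ Nat.card Q = 2 ^ w ∧ Q ≤ Subgroup.centralizer ({x} : Set (Perm (Fin n))) ∧
      N = Q ⊔ Subgroup.zpowers x := by
  classical
  haveI : Fact (Nat.Prime 2) := ⟨Nat.prime_two⟩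
  haveI : Fact (Nat.Prime 3) := ⟨Nat.prime_three⟩
  haveI := hN
  obtain ⟨T⟩ : Nonempty (Sylow 3 N) := inferInstance
  obtain ⟨S⟩ : Nonempty (Sylow 2 N) := inferInstance
  have hT : Nat.card T = 3 := by
    rw [T.card_eq_multiplicity, hc, Nat.factorization_mul (by norm_num) (by positivity),
      Finsupp.add_apply, Nat.prime_three.factorization_self, Nat.factorization_pow, Finsupp.smul_apply,
      Nat.factorization_eq_zero_of_not_dvd (by norm_num : ¬ (3 : ℕ) ∣ 2), smul_zero, add_zero, pow_one]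
  have hS : Nat.card S = 2 ^ w := by
    rw [S.card_eq_multiplicity, hc, Nat.factorization_mul (by norm_num) (by positivity),
      Finsupp.add_apply, Nat.factorization_eq_zero_of_not_dvd (by norm_num : ¬ (2 : ℕ) ∣ 3),
      Nat.prime_two.factorization_pow, Finsupp.single_eq_same, zero_add]
  haveI := sylow_normal T
  haveI := sylow_normal S
  haveI : Nontrivial (T : Subgroup N) := Finite.one_lt_card_iff_nontrivial.mp (by rw [hT]; omega)
  obtain ⟨⟨⟨x, hxN⟩, hxT⟩, hx1⟩ := exists_ne (1 : (T : Subgroup N))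
  have hxne : x ≠ 1 := fun h => hx1 (Subtype.ext (Subtype.ext h))
  have hx3 : x ^ 3 = 1 := by
    have := pow_card_eq_one' (x := (⟨⟨x, hxN⟩, hxT⟩ : (T : Subgroup N)))
    rw [hT] at this
    exact congrArg (fun y : (T : Subgroup N) => ((y : N) : Perm (Fin n))) this
  have hord : orderOf x = 3 := orderOf_eq_prime hx3 hxne
  set Q := (S : Subgroup N).map N.subtype with hQdef
  have hQc : Nat.card Q = 2 ^ w := by
    rw [hQdef, Subgroup.card_map_of_injective N.subtype_injective, hS]
  have hQcent : Q ≤ Subgroup.centralizer ({x} : Set (Perm (Fin n))) := by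
    rintro _ ⟨s, hs, rfl⟩
    rw [Subgroup.mem_centralizer_singleton_iff]
    exact congrArg Subtype.val (Subgroup.commute_of_normal_of_disjoint _ _ inferInstance inferInstance
      (IsPGroup.disjoint_of_ne 2 3 (by norm_num) _ _ S.2 T.2) s ⟨x, hxN⟩ hs hxT).eq
  -- the cycle type
  obtain ⟨r, hr⟩ : ∃ r, x.cycleType = Multiset.replicate (r + 1) 3 :=
    hord ▸ Equiv.Perm.cycleType_prime_order (hord.symm ▸ Nat.prime_three)
  have hsum : 3 * (r + 1) ≤ n := by
    have h := x.sum_cycleType
    rw [hr, Multiset.sum_replicate, smul_eq_mul] at h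
    have := Finset.card_le_univ x.support
    rw [Fintype.card_fin] at this
    omega
  have hr0 : r = 0 := by
    by_contra hne
    have hdvd := Subgroup.card_dvd_of_le hQcent
    rw [hQc, Equiv.Perm.nat_card_centralizer x, hr, Multiset.sum_replicate, Multiset.prod_replicate,
      Multiset.toFinset_replicate, if_neg (by omega), Finset.prod_singleton,
      Multiset.count_replicate_self, Fintype.card_fin, smul_eq_mul] at hdvd
    have h2 := (padicValNat_dvd_iff_le (p := 2) (by positivity)).mp hdvd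
    rw [padicValNat.mul (by positivity) (Nat.factorial_ne_zero _),
      padicValNat.mul (Nat.factorial_ne_zero _) (by positivity),
      padicValNat.eq_zero_of_not_dvd (fun h => absurd (Nat.prime_two.dvd_of_dvd_pow h) (by norm_num)),
      add_zero] at h2
    have h3 : w ≤ v2f (n - 2 * (r + 1)) :=
      calc w ≤ v2f (n - (r + 1) * 3) + v2f (r + 1) := h2
        _ ≤ v2f (n - (r + 1) * 3 + (r + 1)) := v2f_add_le _ _
        _ = _ := by congr 1; omega
    have := hw (r + 1) (by omega) (by omega)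
    omega
  subst hr0
  refine ⟨x, hr, Q, IsPGroup.map S.2 _, hQc, hQcent, ?_⟩
  refine (Subgroup.eq_of_le_of_card_ge (sup_le ?_ (by rwa [Subgroup.zpowers_le])) ?_).symm
  · exact Subgroup.map_subtype_le _
  · refine Nat.le_of_dvd Nat.card_pos ?_
    rw [hc]
    refine Nat.Coprime.mul_dvd_of_dvd_of_dvd (Nat.Coprime.pow_right w (by norm_num)) ?_ ?_
    · have h1 := Subgroup.card_dvd_of_le (le_sup_right : Subgroup.zpowers x ≤ Q ⊔ Subgroup.zpowers x)
      rwa [Nat.card_zpowers, hord] at h1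
    · rw [← hQc]
      exact Subgroup.card_dvd_of_le le_sup_left

/-- Two such groups around the same element are conjugate. -/
theorem conj_of_centralizer {G : Type*} [Group G] [Finite G] (x : G) (Q₁ Q₂ : Subgroup G)
    (h₁ : Q₁ ≤ Subgroup.centralizer ({x} : Set G)) (h₂ : Q₂ ≤ Subgroup.centralizer ({x} : Set G))
    (c₁ : Nat.card Q₁ = 2 ^ (Nat.card (Subgroup.centralizer ({x} : Set G))).factorization 2)
    (c₂ : Nat.card Q₂ = 2 ^ (Nat.card (Subgroup.centralizer ({x} : Set G))).factorization 2) :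
    ∃ c : G, (Q₁ ⊔ Subgroup.zpowers x).map (MulAut.conj c).toMonoidHom = Q₂ ⊔ Subgroup.zpowers x := by
  haveI : Fact (Nat.Prime 2) := ⟨Nat.prime_two⟩
  set C := Subgroup.centralizer ({x} : Set G)
  let S₁ : Sylow 2 C := Sylow.ofCard (Q₁.subgroupOf C) (by
    rw [Nat.card_congr (Subgroup.subgroupOfEquivOfLe h₁).toEquiv, c₁])
  let S₂ : Sylow 2 C := Sylow.ofCard (Q₂.subgroupOf C) (by
    rw [Nat.card_congr (Subgroup.subgroupOfEquivOfLe h₂).toEquiv, c₂])
  obtain ⟨c, hc⟩ := MulAction.exists_smul_eq C S₁ S₂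
  refine ⟨c, ?_⟩
  have hx : (MulAut.conj (c : G)).toMonoidHom x = x := by
    show (c : G) * x * (c : G)⁻¹ = x
    rw [Subgroup.mem_centralizer_singleton_iff.mp c.2, mul_inv_cancel_right]
  have hQ : Q₁.map (MulAut.conj (c : G)).toMonoidHom = Q₂ := by
    ext y
    constructor
    · rintro ⟨q, hq, rfl⟩
      have : c * ⟨q, h₁ hq⟩ * c⁻¹ ∈ (S₂ : Subgroup C) := by
        rw [← hc]
        exact ⟨⟨q, h₁ hq⟩, hq, rfl⟩
      exact this
    · intro hy
      have hy' : (⟨y, h₂ hy⟩ : C) ∈ (S₂ : Subgroup C) := hy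
      rw [← hc] at hy'
      obtain ⟨q, hq, hqy⟩ := hy'
      exact ⟨(q : G), hq, congrArg Subtype.val hqy⟩
  rw [Subgroup.map_sup, MonoidHom.map_zpowers, hQ, hx]

/-- The model subgroup. -/
noncomputable def model (h : n - 3 + 3 = n) (P : Subgroup (Perm (Fin (n - 3)))) :
    Subgroup (Perm (Fin n)) :=
  (P.prod ⊤).map (emb h)

theorem model_card (h : n - 3 + 3 = n) (P : Subgroup (Perm (Fin (n - 3)))) :
    Nat.card (model h P) = 3 * Nat.card P := by
  rw [model, Subgroup.card_map_of_injective (emb_injective h),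
    Nat.card_congr (Subgroup.prodEquiv _ _).toEquiv, Nat.card_prod, Subgroup.card_top,
    Nat.card_congr Multiplicative.toAdd, Nat.card_zmod, mul_comm]

/-- Its isomorphism type. -/
noncomputable def modelEquiv (h : n - 3 + 3 = n) (P : Subgroup (Perm (Fin (n - 3)))) :
    model h P ≃* P × Multiplicative (ZMod 3) :=
  ((P.prod ⊤).equivMapOfInjective (emb h) (emb_injective h)).symm.trans
    ((Subgroup.prodEquiv _ _).trans ((MulEquiv.refl P).prodCongr Subgroup.topEquiv))

theorem model_nilpotent (h : n - 3 + 3 = n) (P : Subgroup (Perm (Fin (n - 3)))) (hP : IsPGroup 2 P) :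
    Group.IsNilpotent (model h P) := by
  haveI : Fact (Nat.Prime 2) := ⟨Nat.prime_two⟩
  haveI : Group.IsNilpotent P := hP.isNilpotent
  exact Group.nilpotent_of_mulEquiv (modelEquiv h P).symm

theorem perm_extremal (hn : n % 4 = 3) (N₁ N₂ : Subgroup (Perm (Fin n)))
    (hN₁ : Group.IsNilpotent N₁) (hN₂ : Group.IsNilpotent N₂)
    (h₁ : Nat.card N₁ = 3 * 2 ^ v2f (n - 3)) (h₂ : Nat.card N₂ = 3 * 2 ^ v2f (n - 3)) :
    ∃ g : Perm (Fin n), N₂ = N₁.map (MulAut.conj g).toMonoidHom := by
  have hw : ∀ r, 2 ≤ r → 3 * r ≤ n → v2f (n - 2 * r) < v2f (n - 3) := by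
    intro r hr hr'
    have := v2f_drop (m := n - 3) (by omega) (by omega)
    have := v2f_mono (show n - 2 * r ≤ n - 3 - 1 by omega)
    omega
  obtain ⟨x₁, hx₁, Q₁, -, hc₁, hle₁, rfl⟩ := exists_shape N₁ hN₁ _ h₁ hw
  obtain ⟨x₂, hx₂, Q₂, -, hc₂, hle₂, rfl⟩ := exists_shape N₂ hN₂ _ h₂ hw
  obtain ⟨g, hg⟩ := isConj_iff.mp (Equiv.Perm.isConj_iff_cycleType_eq.mpr (hx₁.cycleType.trans hx₂.cycleType.symm))
  have hmap : (Q₁ ⊔ Subgroup.zpowers x₁).map (MulAut.conj g).toMonoidHom =
      Q₁.map (MulAut.conj g).toMonoidHom ⊔ Subgroup.zpowers x₂ := by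
    rw [Subgroup.map_sup, MonoidHom.map_zpowers]
    congr 2
  have hle : Q₁.map (MulAut.conj g).toMonoidHom ≤ Subgroup.centralizer ({x₂} : Set (Perm (Fin n))) := by
    rintro _ ⟨q, hq, rfl⟩
    rw [Subgroup.mem_centralizer_singleton_iff, ← hg]
    have := Subgroup.mem_centralizer_singleton_iff.mp (hle₁ hq)
    show g * q * g⁻¹ * (g * x₁ * g⁻¹) = g * x₁ * g⁻¹ * (g * q * g⁻¹)
    calc g * q * g⁻¹ * (g * x₁ * g⁻¹) = g * (q * x₁) * g⁻¹ := by simp [mul_assoc]
      _ = _ := by rw [this]; simp [mul_assoc]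
  have hC : 2 ^ (Nat.card (Subgroup.centralizer ({x₂} : Set (Perm (Fin n))))).factorization 2 =
      2 ^ v2f (n - 3) := by
    rw [card_centralizer_three hx₂, Nat.factorization_mul (by norm_num) (Nat.factorial_ne_zero _),
      Finsupp.add_apply, Nat.factorization_eq_zero_of_not_dvd (by norm_num : ¬ (2 : ℕ) ∣ 3), zero_add,
      Nat.factorization_def _ Nat.prime_two]
  obtain ⟨c, hc⟩ := conj_of_centralizer x₂ _ Q₂ hle hle₂
    (by rw [Subgroup.card_map_of_injective (MulEquiv.injective _), hc₁, hC]) (by rw [hc₂, hC])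
  refine ⟨c * g, ?_⟩
  rw [← hc, ← hmap, Subgroup.map_map]
  congr 1

theorem alt_extremal (hn : n % 4 = 3) (h7 : 7 ≤ n) (w : ℕ) (hw' : w + 1 = v2f (n - 3))
    (N₁ N₂ : Subgroup (alternatingGroup (Fin n)))
    (hN₁ : Group.IsNilpotent N₁) (hN₂ : Group.IsNilpotent N₂)
    (h₁ : Nat.card N₁ = 3 * 2 ^ w) (h₂ : Nat.card N₂ = 3 * 2 ^ w) :
    ∃ g : alternatingGroup (Fin n), N₂ = N₁.map (MulAut.conj g).toMonoidHom := by
  classical
  have hw : ∀ r, 2 ≤ r → 3 * r ≤ n → v2f (n - 2 * r) < w := by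
    intro r hr hr'
    have := v2f_drop (m := n - 3) (by omega) (by omega)
    have := v2f_mono (show n - 2 * r ≤ n - 3 - 1 by omega)
    omega
  have shape : ∀ N : Subgroup (alternatingGroup (Fin n)), Group.IsNilpotent N → Nat.card N = 3 * 2 ^ w →
      ∃ x : (alternatingGroup (Fin n)), (x : Perm (Fin n)).IsThreeCycle ∧ ∃ Q : Subgroup (alternatingGroup (Fin n)), Nat.card Q = 2 ^ w ∧
        Q ≤ Subgroup.centralizer ({x} : Set (alternatingGroup (Fin n))) ∧ N = Q ⊔ Subgroup.zpowers x := by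
    intro N hN hc
    haveI := hN
    obtain ⟨x, hx, Q, -, hQc, hQ, heq⟩ := exists_shape (N.map (alternatingGroup (Fin n)).subtype)
      (Group.nilpotent_of_mulEquiv (N.equivMapOfInjective _ (alternatingGroup (Fin n)).subtype_injective)) w
      (by rw [Subgroup.card_map_of_injective (alternatingGroup (Fin n)).subtype_injective, hc]) hw
    have hle : N.map (alternatingGroup (Fin n)).subtype ≤ (alternatingGroup (Fin n)) := Subgroup.map_subtype_le N
    have hxA : x ∈ (alternatingGroup (Fin n)) := hle (heq ▸ (le_sup_right : Subgroup.zpowers x ≤ _) (Subgroup.mem_zpowers x))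
    have hQA : Q ≤ (alternatingGroup (Fin n)) := fun q hq => hle (heq ▸ (le_sup_left : Q ≤ _) hq)
    refine ⟨⟨x, hxA⟩, hx, Q.comap (alternatingGroup (Fin n)).subtype, ?_, ?_, ?_⟩
    · rw [← hQc]
      exact Nat.card_congr (Subgroup.subgroupOfEquivOfLe hQA).toEquiv
    · intro q hq
      rw [Subgroup.mem_centralizer_singleton_iff]
      exact Subtype.ext (Subgroup.mem_centralizer_singleton_iff.mp (hQ hq))
    · refine Subgroup.map_injective (alternatingGroup (Fin n)).subtype_injective ?_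
      rw [heq, Subgroup.map_sup, MonoidHom.map_zpowers, Subgroup.map_comap_eq,
        Subgroup.range_subtype, inf_eq_right.mpr hQA]
      rfl
  obtain ⟨x₁, hx₁, Q₁, hc₁, hle₁, rfl⟩ := shape N₁ hN₁ h₁
  obtain ⟨x₂, hx₂, Q₂, hc₂, hle₂, rfl⟩ := shape N₂ hN₂ h₂
  obtain ⟨g₀, hg₀⟩ := isConj_iff.mp (Equiv.Perm.isConj_iff_cycleType_eq.mpr
    (hx₁.cycleType.trans hx₂.cycleType.symm) : IsConj (x₁ : Perm (Fin n)) x₂)
  obtain ⟨d, hd, hdc⟩ : ∃ d : Perm (Fin n), Equiv.Perm.sign d = -1 ∧ d * x₂ = x₂ * d := by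
    obtain ⟨u, hu, v, hv, huv⟩ : ∃ u ∈ (x₂ : Perm (Fin n)).supportᶜ,
        ∃ v ∈ (x₂ : Perm (Fin n)).supportᶜ, u ≠ v := by
      refine Finset.one_lt_card.mp ?_
      rw [Finset.card_compl, hx₂.card_support, Fintype.card_fin]
      omega
    rw [Finset.mem_compl, Equiv.Perm.notMem_support] at hu hv
    refine ⟨Equiv.swap u v, Equiv.Perm.sign_swap huv, ?_⟩
    ext y
    simp only [Equiv.Perm.mul_apply]
    by_cases h1 : y = u
    · subst h1; simp [hu, hv]
    by_cases h2 : y = v
    · subst h2; simp [hu, hv]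
    rw [Equiv.swap_apply_of_ne_of_ne h1 h2,
      Equiv.swap_apply_of_ne_of_ne (fun e => h1 ((x₂ : Perm (Fin n)).injective (e.trans hu.symm)))
        (fun e => h2 ((x₂ : Perm (Fin n)).injective (e.trans hv.symm)))]
  obtain ⟨g, hgA, hg⟩ : ∃ g : Perm (Fin n), g ∈ (alternatingGroup (Fin n)) ∧ g * x₁ * g⁻¹ = x₂ := by
    rcases Int.units_eq_one_or (Equiv.Perm.sign g₀) with h | h
    · exact ⟨g₀, h, hg₀⟩
    · refine ⟨d * g₀, by rw [Equiv.Perm.mem_alternatingGroup, map_mul, hd, h]; decide, ?_⟩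
      calc d * g₀ * x₁ * (d * g₀)⁻¹ = d * (g₀ * x₁ * g₀⁻¹) * d⁻¹ := by simp [mul_assoc]
        _ = _ := by rw [hg₀, hdc, mul_inv_cancel_right]
  have hgx : (MulAut.conj (⟨g, hgA⟩ : (alternatingGroup (Fin n)))).toMonoidHom x₁ = x₂ := Subtype.ext hg
  have hmap : (Q₁ ⊔ Subgroup.zpowers x₁).map (MulAut.conj (⟨g, hgA⟩ : (alternatingGroup (Fin n)))).toMonoidHom =
      Q₁.map (MulAut.conj (⟨g, hgA⟩ : (alternatingGroup (Fin n)))).toMonoidHom ⊔ Subgroup.zpowers x₂ := by
    rw [Subgroup.map_sup, MonoidHom.map_zpowers, hgx]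
  have hle : Q₁.map (MulAut.conj (⟨g, hgA⟩ : (alternatingGroup (Fin n)))).toMonoidHom ≤ Subgroup.centralizer ({x₂} : Set (alternatingGroup (Fin n))) := by
    rintro _ ⟨q, hq, rfl⟩
    rw [Subgroup.mem_centralizer_singleton_iff, ← hgx, ← map_mul, ← map_mul,
      Subgroup.mem_centralizer_singleton_iff.mp (hle₁ hq)]
  have hC : 2 ^ (Nat.card (Subgroup.centralizer ({x₂} : Set (alternatingGroup (Fin n))))).factorization 2 = 2 ^ w := by
    set C := Subgroup.centralizer ({(x₂ : Perm (Fin n))} : Set (Perm (Fin n)))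
    have hker := (Equiv.Perm.sign.comp C.subtype).ker.card_mul_index
    have htop : (Equiv.Perm.sign.comp C.subtype).range = ⊤ := by
      rw [eq_top_iff]
      intro s _
      rcases Int.units_eq_one_or s with rfl | rfl
      · exact one_mem _
      · exact ⟨⟨d, Subgroup.mem_centralizer_singleton_iff.mpr hdc⟩, hd⟩
    rw [Subgroup.index_ker, htop, Subgroup.card_top, Nat.card_eq_fintype_card (α := ℤˣ),
      Fintype.card_units_int, card_centralizer_three hx₂] at hker
    have he : Nat.card (Subgroup.centralizer ({x₂} : Set (alternatingGroup (Fin n)))) =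
        Nat.card (Equiv.Perm.sign.comp C.subtype).ker := by
      refine Nat.card_congr
        { toFun := fun y => ⟨⟨((y : (alternatingGroup (Fin n))) : Perm (Fin n)), Subgroup.mem_centralizer_singleton_iff.mpr
            (congrArg Subtype.val (Subgroup.mem_centralizer_singleton_iff.mp y.2))⟩, (y : (alternatingGroup (Fin n))).2⟩
          invFun := fun y => ⟨⟨((y : C) : Perm (Fin n)), y.2⟩, Subgroup.mem_centralizer_singleton_iff.mpr
            (Subtype.ext (Subgroup.mem_centralizer_singleton_iff.mp (y : C).2))⟩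
          left_inv := fun y => rfl
          right_inv := fun y => rfl }
    rw [he]
    congr 1
    have hv : (3 * (n - 3).factorial).factorization 2 = w + 1 := by
      rw [Nat.factorization_mul (by norm_num) (Nat.factorial_ne_zero _),
        Finsupp.add_apply, Nat.factorization_eq_zero_of_not_dvd (by norm_num : ¬ (2 : ℕ) ∣ 3), zero_add,
        Nat.factorization_def _ Nat.prime_two, hw']
    rw [← hker, Nat.factorization_mul Nat.card_pos.ne' two_ne_zero, Finsupp.add_apply,
      Nat.prime_two.factorization_self] at hv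
    omega
  obtain ⟨c, hc⟩ := conj_of_centralizer x₂ _ Q₂ hle hle₂
    (by rw [Subgroup.card_map_of_injective (MulEquiv.injective _), hc₁, hC]) (by rw [hc₂, hC])
  refine ⟨c * ⟨g, hgA⟩, ?_⟩
  rw [← hc, ← hmap, Subgroup.map_map]
  congr 1

/-- The model subgroup inside the alternating group. -/
noncomputable def embAlt (h : n - 3 + 3 = n) :
    alternatingGroup (Fin (n - 3)) × Multiplicative (ZMod 3) →* alternatingGroup (Fin n) :=
  ((emb h).comp ((alternatingGroup (Fin (n - 3))).subtype.prodMap (MonoidHom.id _))).codRestrict _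
    (fun p => by
      rw [Equiv.Perm.mem_alternatingGroup]
      exact (sign_emb h _).trans p.1.2)

theorem embAlt_injective (h : n - 3 + 3 = n) : Function.Injective (embAlt h) := by
  intro a b e
  have := emb_injective h (congrArg Subtype.val e)
  obtain ⟨h2, h3⟩ := Prod.ext_iff.mp this
  exact Prod.ext (Subtype.ext h2) h3

theorem alt_model (h : n - 3 + 3 = n) (P : Sylow 2 (alternatingGroup (Fin (n - 3)))) :
    ∃ M : Subgroup (alternatingGroup (Fin n)), Group.IsNilpotent M ∧ Nat.card M = 3 * Nat.card P ∧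
      Nonempty (M ≃* (↥(P : Subgroup (alternatingGroup (Fin (n - 3)))) × Multiplicative (ZMod 3))) := by
  haveI : Fact (Nat.Prime 2) := ⟨Nat.prime_two⟩
  let e := ((Subgroup.prod (P : Subgroup (alternatingGroup (Fin (n - 3))))
      (⊤ : Subgroup (Multiplicative (ZMod 3)))).equivMapOfInjective (embAlt h) (embAlt_injective h)).symm.trans
    ((Subgroup.prodEquiv _ _).trans
      ((MulEquiv.refl (P : Subgroup (alternatingGroup (Fin (n - 3))))).prodCongr Subgroup.topEquiv))
  haveI : Group.IsNilpotent (P : Subgroup (alternatingGroup (Fin (n - 3)))) := P.2.isNilpotent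
  refine ⟨_, Group.nilpotent_of_mulEquiv e.symm, ?_, ⟨e⟩⟩
  rw [Nat.card_congr e.toEquiv, Nat.card_prod, Nat.card_congr Multiplicative.toAdd, Nat.card_zmod, mul_comm]

end Embed

end CfsgLib.NilPerm
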