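import Cfsg.Agent.Lib.NilPerm.Arith

/-!
Orders of nilpotent permutation groups.
-/

set_option autoImplicit false

namespace CfsgLib.NilPerm

open Equiv MulAction

section Transitive

variable {H α : Type*} [Group H] [Finite H] [Fintype α] [DecidableEq α] [MulAction H α]
  [FaithfulSMul H α]

/-- Every element is a product of an element of `P` and one commuting with `P`. -/
theorem exists_commuting_factor [Group.IsNilpotent H] {p : ℕ} [hp : Fact p.Prime] (P : Sylow p H)
    (g : H) : ∃ s ∈ (P : Subgroup H), ∃ c : H, (∀ x ∈ (P : Subgroup H), c * x = x * c) ∧ g = c * s := by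
  have hn : ∀ (q : ℕ) (_ : Fact q.Prime) (Q : Sylow q H), (Q : Subgroup H).Normal :=
    ((Group.isNilpotent_of_finite_tfae (G := H)).out 0 3).mp ‹Group.IsNilpotent H›
  haveI := hn p hp P
  set C := Subgroup.centralizer ((P : Subgroup H) : Set H) with hC
  have htop : C ⊔ (P : Subgroup H) = ⊤ := by
    refine Subgroup.eq_top_of_card_eq _ (Nat.dvd_antisymm (Subgroup.card_subgroup_dvd_card _) ?_)
    rw [← Nat.factorization_le_iff_dvd Nat.card_pos.ne' Nat.card_pos.ne']
    intro q
    by_cases hq : q.Prime
    swap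
    · simp [hq]
    haveI := Fact.mk hq
    obtain ⟨Q⟩ : Nonempty (Sylow q H) := inferInstance
    have hle : (Q : Subgroup H) ≤ C ⊔ (P : Subgroup H) := by
      by_cases hqp : q = p
      · subst hqp
        haveI := Sylow.unique_of_normal P inferInstance
        rw [Subsingleton.elim Q P]
        exact le_sup_right
      · refine le_trans ?_ le_sup_left
        intro x hx
        rw [hC, Subgroup.mem_centralizer_iff]
        intro y hy
        haveI := hn q inferInstance Q
        exact Subgroup.commute_of_normal_of_disjoint _ _ inferInstance inferInstance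
          (IsPGroup.disjoint_of_ne p q (Ne.symm hqp) _ _ P.2 Q.2) y x hy hx
    have h1 : q ^ (Nat.card H).factorization q ∣ Nat.card ↥(C ⊔ (P : Subgroup H)) := by
      rw [← Q.card_eq_multiplicity]
      exact Subgroup.card_dvd_of_le hle
    exact (Nat.Prime.pow_dvd_iff_le_factorization hq Nat.card_pos.ne').mp h1
  obtain ⟨c, hc, s, hs, hg⟩ := Subgroup.mem_sup_of_normal_right.mp (htop ▸ Subgroup.mem_top g)
  exact ⟨s, hs, c, fun x hx => (Subgroup.mem_centralizer_iff.mp hc x hx).symm, hg.symm⟩

theorem fixes_all [Group.IsNilpotent H] [IsPretransitive H α] {p : ℕ} [Fact p.Prime]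
    (P : Sylow p H) (ω : α) {x : H} (hx : x ∈ (P : Subgroup H))
    (h : ∀ y ∈ orbit (P : Subgroup H) ω, x • y = y) : x = 1 := by
  refine eq_of_smul_eq_smul (α := α) fun y => ?_
  obtain ⟨g, rfl⟩ := exists_smul_eq H ω y
  obtain ⟨s, hs, c, hc, rfl⟩ := exists_commuting_factor P g
  rw [one_smul, mul_smul, smul_smul, ← hc x hx, ← smul_smul]
  congr 1
  exact h _ ⟨⟨s, hs⟩, rfl⟩

theorem sylow_normal [Group.IsNilpotent H] {p : ℕ} [hp : Fact p.Prime] (P : Sylow p H) :
    (P : Subgroup H).Normal := by
  have h : ∀ (q : ℕ) (_ : Fact q.Prime) (Q : Sylow q H), (Q : Subgroup H).Normal :=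
    ((Group.isNilpotent_of_finite_tfae (G := H)).out 0 3).mp ‹Group.IsNilpotent H›
  exact h p hp P

theorem card_inf_mul_relIndex {G : Type*} [Group G] (A K : Subgroup G) :
    Nat.card ↥(K ⊓ A) * A.relIndex K = Nat.card K := by
  have h := (A.subgroupOf K).card_mul_index
  rwa [← Subgroup.card_map_of_injective K.subtype_injective, Subgroup.subgroupOf_map_subtype,
    inf_comm] at h

theorem orbit_card_dvd [IsPretransitive H α] {p : ℕ} [hp : Fact p.Prime] (P : Sylow p H)
    [(P : Subgroup H).Normal] (ω : α) :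
    Nat.card (orbit (P : Subgroup H) ω) ∣ p ^ (Nat.card α).factorization p := by
  have h1 : Nat.card (orbit (P : Subgroup H) ω) = (stabilizer H ω).relIndex (P : Subgroup H) := by
    rw [Nat.card_coe_set_eq, ← index_stabilizer]
    rfl
  have h2 : Nat.card (orbit (P : Subgroup H) ω) ∣ Nat.card α := by
    rw [h1, ← index_stabilizer_of_transitive H ω]
    set S := stabilizer H ω
    set Q : Subgroup H := (P : Subgroup H)
    have a := card_inf_mul_relIndex S Q
    have b := card_inf_mul_relIndex Q (S ⊔ Q)
    rw [Subgroup.relIndex_sup_right, inf_eq_right.mpr le_sup_right] at b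
    have c := card_inf_mul_relIndex Q S
    rw [inf_comm] at c
    have d := (S ⊔ Q).card_mul_index
    have e := S.card_mul_index
    refine ⟨(S ⊔ Q).index, Nat.eq_of_mul_eq_mul_left (Nat.card_pos (α := S)) ?_⟩
    rw [e, ← d, ← b]
    calc Nat.card Q * Q.relIndex S * (S ⊔ Q).index
        = (Nat.card ↥(Q ⊓ S) * S.relIndex Q) * Q.relIndex S * (S ⊔ Q).index := by rw [a]
      _ = (Nat.card ↥(Q ⊓ S) * Q.relIndex S) * (S.relIndex Q * (S ⊔ Q).index) := by ring
      _ = _ := by rw [c]
  obtain ⟨k, hk⟩ := P.2.card_orbit ω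
  haveI : Nonempty α := ⟨ω⟩
  rw [hk] at h2 ⊢
  exact pow_dvd_pow p ((hp.out.pow_dvd_iff_le_factorization Nat.card_pos.ne').mp h2)

/-- The Sylow subgroup as a permutation group of its orbit. -/
theorem toPerm_orbit_injective [Group.IsNilpotent H] [IsPretransitive H α] {p : ℕ} [Fact p.Prime]
    (P : Sylow p H) (ω : α) :
    Function.Injective (MulAction.toPermHom (P : Subgroup H) (orbit (P : Subgroup H) ω)) := by
  rw [← MonoidHom.ker_eq_bot_iff, eq_bot_iff]
  intro x hx
  refine Subgroup.mem_bot.mpr (Subtype.ext (fixes_all P ω x.2 fun y hy => ?_))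
  have := DFunLike.congr_fun (MonoidHom.mem_ker.mp hx) (⟨y, hy⟩ : orbit (P : Subgroup H) ω)
  exact congrArg Subtype.val this

theorem sylow_card_le [Group.IsNilpotent H] [IsPretransitive H α] {p : ℕ} [hp : Fact p.Prime]
    (P : Sylow p H) (ω : α) :
    Nat.card (P : Subgroup H) ∣ p ^ padicValNat p (Nat.card (orbit (P : Subgroup H) ω)).factorial := by
  classical
  have h1 := Subgroup.card_dvd_of_injective _ (toPerm_orbit_injective P ω)
  rw [Nat.card_perm] at h1
  obtain ⟨k, hk⟩ := IsPGroup.iff_card.mp P.2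
  rw [hk] at h1 ⊢
  exact pow_dvd_pow p ((padicValNat_dvd_iff_le (Nat.factorial_ne_zero _)).mp h1)

theorem sylow_card_le_deg [Group.IsNilpotent H] [IsPretransitive H α] {p : ℕ} [hp : Fact p.Prime]
    (P : Sylow p H) [Nonempty α] :
    p ^ (Nat.card H).factorization p ≤
      p ^ padicValNat p (p ^ (Nat.card α).factorization p).factorial := by
  obtain ⟨ω⟩ := ‹Nonempty α›
  haveI : (P : Subgroup H).Normal :=
    sylow_normal P
  rw [← P.card_eq_multiplicity]
  refine (Nat.le_of_dvd (pow_pos hp.out.pos _) (sylow_card_le P ω)).trans ?_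
  refine Nat.pow_le_pow_right hp.out.pos ?_
  have h := Nat.factorial_dvd_factorial
    (Nat.le_of_dvd (pow_pos hp.out.pos _) (orbit_card_dvd P ω))
  exact (padicValNat_dvd_iff_le (Nat.factorial_ne_zero _)).mp (pow_padicValNat_dvd.trans h)

theorem card_le_of_two [Group.IsNilpotent H] [IsPretransitive H α] [Nonempty α] (e : ℕ → ℕ)
    (he : ∀ p, p.Prime → p ^ (Nat.card H).factorization p ≤ e p)
    (he' : ∀ p ∈ (Nat.card α).primeFactors, 1 ≤ e p) :
    Nat.card H ≤ ∏ p ∈ (Nat.card α).primeFactors, e p := by
  have hsub : (Nat.card H).primeFactors ⊆ (Nat.card α).primeFactors := by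
    intro p hp
    haveI := Fact.mk (Nat.prime_of_mem_primeFactors hp)
    have hpos := Nat.Prime.factorization_pos_of_dvd (Nat.prime_of_mem_primeFactors hp)
      Nat.card_pos.ne' (Nat.dvd_of_mem_primeFactors hp)
    obtain ⟨P⟩ : Nonempty (Sylow p H) := inferInstance
    by_contra hn
    have h := sylow_card_le_deg (α := α) P
    have h0 : (Nat.card α).factorization p = 0 :=
      Finsupp.notMem_support_iff.mp (by rwa [Nat.support_factorization])
    rw [h0, pow_zero, Nat.factorial_one, padicValNat_one_right, pow_zero] at h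
    exact absurd h (Nat.not_le.mpr (Nat.one_lt_pow hpos.ne' (Fact.out : p.Prime).one_lt))
  calc Nat.card H = ∏ p ∈ (Nat.card H).primeFactors, p ^ (Nat.card H).factorization p :=
        (Nat.factorization_prod_pow_eq_self Nat.card_pos.ne').symm
    _ ≤ ∏ p ∈ (Nat.card H).primeFactors, e p :=
        Finset.prod_le_prod' fun p hp => he p (Nat.prime_of_mem_primeFactors hp)
    _ ≤ ∏ p ∈ (Nat.card α).primeFactors, e p :=
        Finset.prod_le_prod_of_subset_of_one_le' hsub fun p hp _ => he' p hp

theorem trans_card_le [Group.IsNilpotent H] [IsPretransitive H α] [Nonempty α] :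
    Nat.card H ≤ transBound (Nat.card α) := by
  rw [transBound_eq Nat.card_pos.ne']
  refine card_le_of_two _ (fun p hp => ?_) fun p hp => Nat.one_le_pow _ _ (Nat.pos_of_mem_primeFactors hp)
  haveI := Fact.mk hp
  obtain ⟨P⟩ : Nonempty (Sylow p H) := inferInstance
  exact sylow_card_le_deg P

theorem exists_swap [Group.IsNilpotent H] [IsPretransitive H α] (P : Sylow 2 H) (ω : α) (k : ℕ)
    (hk : 1 ≤ k) (ho : Nat.card (orbit (P : Subgroup H) ω) = 2 ^ k)
    (hfull : 2 ^ padicValNat 2 (2 ^ k).factorial ≤ Nat.card (P : Subgroup H)) :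
    ∃ x : (P : Subgroup H),
      (MulAction.toPermHom (P : Subgroup H) (orbit (P : Subgroup H) ω) x).IsSwap := by
  classical
  set O := orbit (P : Subgroup H) ω
  set f := MulAction.toPermHom (P : Subgroup H) O
  have hcard : Nat.card (Perm O) = (2 ^ k).factorial := by rw [Nat.card_perm, ho]
  have hpg : IsPGroup 2 f.range := IsPGroup.of_equiv P.2
    (MonoidHom.ofInjective (toPerm_orbit_injective P ω))
  obtain ⟨S, hS⟩ := hpg.exists_le_sylow
  have hS2 : Nat.card (S : Subgroup (Perm O)) = 2 ^ padicValNat 2 (2 ^ k).factorial := by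
    rw [S.card_eq_multiplicity, hcard, Nat.factorization_def _ Nat.prime_two]
  have hrange : Nat.card f.range = Nat.card (P : Subgroup H) :=
    (Nat.card_congr (MonoidHom.ofInjective (toPerm_orbit_injective P ω)).toEquiv).symm
  have heq : f.range = (S : Subgroup (Perm O)) := by
    refine Subgroup.eq_of_le_of_card_ge hS ?_
    rw [hS2, hrange]
    exact hfull
  have h2 : 1 < Nat.card O := by
    rw [ho]
    exact Nat.one_lt_two_pow (by omega)
  haveI : Nontrivial O := Finite.one_lt_card_iff_nontrivial.mp h2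
  obtain ⟨a, b, hab⟩ := exists_pair_ne O
  have hsw : IsPGroup 2 (Subgroup.zpowers (Equiv.swap a b)) :=
    IsPGroup.of_card (n := 1) (by
      rw [Nat.card_zpowers, Equiv.Perm.IsSwap.orderOf ⟨a, b, hab, rfl⟩, pow_one])
  obtain ⟨S', hS'⟩ := hsw.exists_le_sylow
  obtain ⟨g, hg⟩ := MulAction.exists_smul_eq (Perm O) S' S
  have hmem : g * Equiv.swap a b * g⁻¹ ∈ f.range := by
    rw [heq, ← hg]
    exact ⟨_, hS' (Subgroup.mem_zpowers _), by simp⟩
  obtain ⟨x, hx⟩ := hmem
  refine ⟨x, ?_⟩
  show (f x).IsSwap
  rw [hx]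
  exact ⟨g a, g b, g.injective.ne hab, (Equiv.swap_apply_apply g a b).symm⟩

theorem trans_card_half [Group.IsNilpotent H] [IsPretransitive H α] [Nonempty α]
    (hev : ∀ x : H, Equiv.Perm.sign (MulAction.toPermHom H α x) = 1) (h2 : 2 ∣ Nat.card H) :
    2 * Nat.card H ≤ transBound (Nat.card α) := by
  classical
  haveI : Fact (Nat.Prime 2) := ⟨Nat.prime_two⟩
  obtain ⟨P⟩ : Nonempty (Sylow 2 H) := inferInstance
  haveI : (P : Subgroup H).Normal :=
    sylow_normal P
  obtain ⟨ω⟩ := ‹Nonempty α›
  set a := (Nat.card α).factorization 2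
  set v := padicValNat 2 (2 ^ a).factorial
  have hd := orbit_card_dvd P ω
  obtain ⟨j, hja, hj⟩ := (Nat.dvd_prime_pow Nat.prime_two).mp hd
  have hP := sylow_card_le P ω
  rw [hj] at hP
  obtain ⟨k, hkv, hk⟩ := (Nat.dvd_prime_pow Nat.prime_two).mp hP
  have hkfac : k = (Nat.card H).factorization 2 :=
    Nat.pow_right_injective le_rfl (hk.symm.trans P.card_eq_multiplicity)
  have hk1 : 1 ≤ k := hkfac ▸ Nat.Prime.factorization_pos_of_dvd Nat.prime_two Nat.card_pos.ne' h2
  have hval : ∀ i, padicValNat 2 (2 ^ i).factorial = 2 ^ i - 1 := fun i => by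
    have := v2f_two_pow_mul i 1
    simpa [v2f] using this
  have hj1 : 1 ≤ j := by
    rcases Nat.eq_zero_or_pos j with h | h
    · subst h; simp at hkv; omega
    · exact h
  have hlt : k + 1 ≤ v := by
    by_contra hge
    have hmono : 2 ^ j ≤ 2 ^ a := Nat.pow_le_pow_right (by omega) hja
    rw [hval] at hkv
    simp only [v, hval] at hge
    have hjeq : 2 ^ j = 2 ^ a := by omega
    have hja' : j = a := Nat.pow_right_injective le_rfl hjeq
    have hfull : 2 ^ padicValNat 2 (2 ^ j).factorial ≤ Nat.card (P : Subgroup H) := by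
      rw [hk, hval]; exact Nat.pow_le_pow_right (by omega) (by omega)
    obtain ⟨x, hxs⟩ := exists_swap P ω j hj1 hj hfull
    set u := MulAction.toPermHom H α (x : H)
    have hu2 : u * u = 1 := by
      have hx2 : x * x = 1 := toPerm_orbit_injective P ω (by
        rw [map_mul, map_one]
        obtain ⟨p, q, hpq, e⟩ := hxs
        rw [e, Equiv.swap_mul_self])
      rw [← map_mul, ← Subgroup.coe_mul, hx2, Subgroup.coe_one, map_one]
    -- moved points in each orbit
    let cl : α → orbitRel.Quotient (P : Subgroup H) α := Quotient.mk''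
    have hfib : ∀ o, (u.support.filter fun y => cl y = o).card = 2 := by
      intro o
      induction o using Quotient.inductionOn' with
      | h y =>
        obtain ⟨g, rfl⟩ := exists_smul_eq H ω y
        obtain ⟨s, hs, c, hc, rfl⟩ := exists_commuting_factor P g
        have e : (u.support.filter fun z => cl z = Quotient.mk'' ((c * s) • ω)) =
            ((MulAction.toPermHom (P : Subgroup H) (orbit (P : Subgroup H) ω) x).support.map
              (Function.Embedding.subtype _)).map (MulAction.toPerm c).toEmbedding := by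
          ext z
          simp only [Finset.mem_filter, Equiv.Perm.mem_support, Finset.mem_map,
            Function.Embedding.subtype_apply, Equiv.coe_toEmbedding, MulAction.toPerm_apply]
          constructor
          · rintro ⟨h1, h2⟩
            obtain ⟨⟨r, hr⟩, hrz⟩ := Quotient.exact' h2
            refine ⟨(r * s) • ω, ⟨⟨(r * s) • ω, ⟨⟨r * s, mul_mem hr hs⟩, rfl⟩⟩, ?_, rfl⟩, ?_⟩
            · intro h
              apply h1
              have h' : (x : H) • (r * s) • ω = (r * s) • ω := congrArg Subtype.val h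
              have hz : z = c • (r * s) • ω := by
                rw [← hrz]
                show r • (c * s) • ω = _
                rw [smul_smul, smul_smul, ← mul_assoc, ← hc r hr, mul_assoc]
              show (x : H) • z = z
              rw [hz, smul_smul, ← hc x x.2, ← smul_smul, h']
            · rw [← hrz]
              show c • (r * s) • ω = r • (c * s) • ω
              rw [smul_smul, smul_smul, ← mul_assoc, ← mul_assoc, hc r hr]
          · rintro ⟨y', ⟨⟨y'', hy''⟩, hne, rfl⟩, rfl⟩
            refine ⟨fun h => hne (Subtype.ext ?_), ?_⟩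
            · have h' : (x : H) • c • y'' = c • y'' := h
              show (x : H) • y'' = y''
              rw [smul_smul, ← hc x x.2, ← smul_smul] at h'
              exact MulAction.injective c h'
            · obtain ⟨⟨r, hr⟩, rfl⟩ := hy''
              refine Quotient.sound' ⟨⟨r * s⁻¹, mul_mem hr (inv_mem hs)⟩, ?_⟩
              show (r * s⁻¹) • (c * s) • ω = c • r • ω
              rw [smul_smul, smul_smul, ← hc r hr |>.symm]
              congr 1
              rw [mul_assoc, ← mul_assoc s⁻¹ c, ← hc _ (inv_mem hs)]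
              simp [mul_assoc, hc r hr]
        rw [e, Finset.card_map, Finset.card_map, Equiv.Perm.card_support_eq_two]
        exact hxs
    haveI := Fintype.ofFinite (orbitRel.Quotient (P : Subgroup H) α)
    have hsupp : u.support.card = 2 * Fintype.card (orbitRel.Quotient (P : Subgroup H) α) := by
      rw [Finset.card_eq_sum_card_fiberwise (f := cl) (t := Finset.univ) (fun _ _ => Finset.mem_univ _),
        Finset.sum_congr rfl fun o _ => hfib o, Finset.sum_const, smul_eq_mul, mul_comm,
        Finset.card_univ]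
    have hblocks : Nat.card α = Fintype.card (orbitRel.Quotient (P : Subgroup H) α) * 2 ^ a := by
      rw [Nat.card_eq_fintype_card, ← Finset.card_univ,
        Finset.card_eq_sum_card_fiberwise (f := cl) (t := Finset.univ) (fun _ _ => Finset.mem_univ _),
        Finset.sum_congr rfl (g := fun _ => 2 ^ a) (fun o _ => ?_), Finset.sum_const, smul_eq_mul,
        Finset.card_univ]
      induction o using Quotient.inductionOn' with
      | h y =>
        obtain ⟨g, rfl⟩ := exists_smul_eq H ω y
        rw [← hjeq, ← hj, ← Nat.card_eq_finsetCard]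
        refine Nat.card_congr ((Equiv.subtypeEquivRight
          (q := fun z => z ∈ orbit (P : Subgroup H) (g • ω)) ?_).trans ?_)
        · intro z
          show z ∈ Finset.univ.filter (fun w => cl w = Quotient.mk'' (g • ω)) ↔
            z ∈ orbit (P : Subgroup H) (g • ω)
          simp only [Finset.mem_filter, Finset.mem_univ, true_and]
          exact Quotient.eq''
        · refine ((MulAction.toPerm g).subtypeEquiv fun w => ?_).symm
          show w ∈ orbit (P : Subgroup H) ω ↔ g • w ∈ orbit (P : Subgroup H) (g • ω)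
          constructor
          · rintro ⟨⟨r, hr⟩, rfl⟩
            refine ⟨⟨g * r * g⁻¹, Subgroup.Normal.conj_mem inferInstance r hr g⟩, ?_⟩
            show (g * r * g⁻¹) • g • ω = g • r • ω
            simp [smul_smul, mul_assoc]
          · rintro ⟨⟨r, hr⟩, he⟩
            refine ⟨⟨g⁻¹ * r * g, Subgroup.Normal.conj_mem' inferInstance r hr g⟩, ?_⟩
            have he' : r • g • ω = g • w := he
            show (g⁻¹ * r * g) • ω = w
            rw [mul_smul, mul_smul, he', inv_smul_smul]
    have hm : Odd (Fintype.card (orbitRel.Quotient (P : Subgroup H) α)) := by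
      rw [← Nat.not_even_iff_odd, even_iff_two_dvd]
      rintro ⟨m, hm⟩
      have hdv : 2 ^ (a + 1) ∣ Nat.card α := ⟨m, by rw [hblocks, hm, pow_succ]; ring⟩
      exact Nat.pow_succ_factorization_not_dvd Nat.card_pos.ne' Nat.prime_two hdv
    have hsign : Equiv.Perm.sign u = -1 := by
      have hfix : Fintype.card (Function.fixedPoints ⇑u) = u.supportᶜ.card :=
        Fintype.card_of_subtype _ fun y => by simp [Function.IsFixedPt]
      rw [Equiv.Perm.sign_of_pow_two_eq_one (by rw [pow_two]; exact hu2), hfix, Finset.card_compl,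
        Nat.sub_sub_self (Finset.card_le_univ _), hsupp,
        Nat.mul_div_cancel_left _ two_pos, hm.neg_one_pow]
    exact absurd (hev x) (by rw [show MulAction.toPermHom H α (x : H) = u from rfl, hsign]; decide)
  have hmem : 2 ∈ (Nat.card α).primeFactors := by
    rw [← Nat.support_factorization, Finsupp.mem_support_iff]
    intro h0
    have : v = 0 := by simp [v, a, h0]
    omega
  rw [transBound_eq Nat.card_pos.ne', ← Finset.mul_prod_erase _ _ hmem]
  change 2 * Nat.card H ≤ 2 ^ v * _
  let e : ℕ → ℕ := fun p => if p = 2 then 2 ^ (v - 1) else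
    p ^ padicValNat p (p ^ (Nat.card α).factorization p).factorial
  have hle := card_le_of_two (H := H) (α := α) e (fun p hp => by
      by_cases h : p = 2
      · subst h
        simp only [e, if_pos]
        exact Nat.pow_le_pow_right (by omega) (by omega)
      · simp only [e, h, if_false]
        haveI := Fact.mk hp
        obtain ⟨Q⟩ : Nonempty (Sylow p H) := inferInstance
        exact sylow_card_le_deg Q)
    (fun p hp => by
      by_cases h : p = 2
      · simp only [e, h, if_pos]; exact Nat.one_le_two_pow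
      · simp only [e, h, if_false]; exact Nat.one_le_pow _ _ (Nat.pos_of_mem_primeFactors hp))
  rw [← Finset.mul_prod_erase _ _ hmem] at hle
  refine le_trans (Nat.mul_le_mul_left 2 hle) (le_of_eq ?_)
  rw [← mul_assoc]
  congr 1
  · simp only [e, if_pos]
    rw [← pow_succ', Nat.sub_add_cancel (by omega)]
  · exact Finset.prod_congr rfl fun p hp => by simp [e, (Finset.mem_erase.mp hp).1]

end Transitive

/-- What is proved by induction on the degree. -/
def Good (n c : ℕ) (allEven : Prop) : Prop :=
  c ≤ bound n ∧ (allEven → 2 ∣ c → 2 * c ≤ bound n) ∧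
    (Odd c → c ^ 2 ≤ 3 ^ (n - 1) ∧ (n < 16 → c ≤ oddTable n))

theorem good : ∀ (n : ℕ) {α : Type} [Fintype α] [DecidableEq α], Fintype.card α = n →
    ∀ (N : Subgroup (Perm α)), Group.IsNilpotent N →
      Good n (Nat.card N) (∀ g ∈ N, Equiv.Perm.sign g = 1) := by
  classical
  intro n
  induction n using Nat.strong_induction_on with
  | _ n ih =>
  intro α _ _ hn N hN
  rcases Nat.eq_zero_or_pos n with h0 | hpos
  · subst h0
    haveI : IsEmpty α := Fintype.card_eq_zero_iff.mp hn
    have h1 : Nat.card N = 1 := Nat.card_unique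
    rw [h1]
    refine ⟨Nat.one_le_iff_ne_zero.mpr (by simp [bound, coef]), fun _ h => by omega,
      fun _ => ⟨by norm_num, fun _ => by decide⟩⟩
  haveI : Nonempty α := Fintype.card_pos_iff.mp (hn ▸ hpos)
  have hnat : Nat.card α = n := by rw [Nat.card_eq_fintype_card, hn]
  haveI := hN
  by_cases htr : IsPretransitive N α
  · have hb : Nat.card N ≤ transBound n := hnat ▸ trans_card_le (H := N) (α := α)
    refine ⟨hb.trans (transBound_le (by omega)), fun hev h2 => ?_, fun hodd => ?_⟩
    · have : 2 * Nat.card N ≤ transBound n := hnat ▸ trans_card_half (H := N) (α := α)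
        (fun x => by
          have e : MulAction.toPermHom N α x = (x : Perm α) := by ext y; rfl
          rw [e]; exact hev x x.2) h2
      exact this.trans (transBound_le (by omega))
    · have hno : Odd n := by
        obtain ⟨ω⟩ := ‹Nonempty α›
        refine Odd.of_dvd_nat hodd ?_
        rw [← hnat, ← index_stabilizer_of_transitive N ω]
        exact Subgroup.index_dvd_card _
      exact ⟨(Nat.pow_le_pow_left hb 2).trans (transBound_odd hno),
        fun h16 => hb.trans (oddTable_trans h16 hno)⟩
  obtain ⟨ω⟩ := ‹Nonempty α›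
  set p : α → Prop := fun y => y ∈ orbit N ω
  have hinv : ∀ g : N, ∀ y, p ((g : Perm α) y) ↔ p y := fun g y => by
    show g • y ∈ orbit N ω ↔ y ∈ orbit N ω
    rw [← orbit_eq_iff, ← orbit_eq_iff, orbit_smul]
  have hinv' : ∀ g : N, ∀ y, ¬ p ((g : Perm α) y) ↔ ¬ p y := fun g y => not_congr (hinv g y)
  let φ₁ : N →* Perm {y // p y} :=
    { toFun := fun g => (g : Perm α).subtypePerm (hinv g)
      map_one' := by ext; rfl
      map_mul' := fun g h => by ext; rfl }
  let φ₂ : N →* Perm {y // ¬ p y} :=
    { toFun := fun g => (g : Perm α).subtypePerm (hinv' g)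
      map_one' := by ext; rfl
      map_mul' := fun g h => by ext; rfl }
  have hinj : Function.Injective (φ₁.prod φ₂) := fun g h he => by
    refine Subtype.ext (Equiv.ext fun y => ?_)
    by_cases hy : p y
    · exact congrArg Subtype.val (DFunLike.congr_fun (congrArg Prod.fst he) ⟨y, hy⟩)
    · exact congrArg Subtype.val (DFunLike.congr_fun (congrArg Prod.snd he) ⟨y, hy⟩)
  have hsum : Fintype.card {y // p y} + Fintype.card {y // ¬ p y} = n := by
    rw [← hn, ← Fintype.card_congr (Equiv.sumCompl p), Fintype.card_sum]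
  have hp1 : 1 ≤ Fintype.card {y // p y} := Fintype.card_pos_iff.mpr ⟨⟨ω, mem_orbit_self ω⟩⟩
  have hp2 : 1 ≤ Fintype.card {y // ¬ p y} := by
    refine Fintype.card_pos_iff.mpr ?_
    by_contra hno
    refine htr ((isPretransitive_iff_orbit_eq_univ ω).mpr (Set.eq_univ_of_forall fun y => ?_))
    by_contra hy
    exact hno ⟨⟨y, hy⟩⟩
  obtain ⟨A1, B1, C1⟩ := ih _ (by omega) rfl φ₁.range
    (Group.nilpotent_of_surjective φ₁.rangeRestrict φ₁.rangeRestrict_surjective)
  obtain ⟨A2, B2, C2⟩ := ih _ (by omega) rfl φ₂.range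
    (Group.nilpotent_of_surjective φ₂.rangeRestrict φ₂.rangeRestrict_surjective)
  set n₁ := Fintype.card {y // p y}
  set n₂ := Fintype.card {y // ¬ p y}
  set M := φ₁.rangeRestrict.prod φ₂.rangeRestrict with hMdef
  have hMinj : Function.Injective M := fun g h he => hinj (Prod.ext
    (congrArg (fun z => (z.1 : Perm {y // p y})) he) (congrArg (fun z => (z.2 : Perm {y // ¬ p y})) he))
  have hcardM : Nat.card N ∣ Nat.card φ₁.range * Nat.card φ₂.range := by
    rw [← Nat.card_prod]; exact Subgroup.card_dvd_of_injective M hMinj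
  have hle : Nat.card N ≤ Nat.card φ₁.range * Nat.card φ₂.range :=
    Nat.le_of_dvd (Nat.mul_pos Nat.card_pos Nat.card_pos) hcardM
  have hmul : bound n₁ * bound n₂ ≤ bound n := hsum ▸ bound_mul_le n₁ n₂
  refine ⟨hle.trans ((Nat.mul_le_mul A1 A2).trans hmul), fun hev h2 => ?_, fun hodd => ?_⟩
  · by_cases hall : (∀ x ∈ φ₁.range, Equiv.Perm.sign x = 1) ∧ (∀ x ∈ φ₂.range, Equiv.Perm.sign x = 1)
    · rcases (Nat.Prime.dvd_mul Nat.prime_two).mp (h2.trans hcardM) with h | h
      · calc 2 * Nat.card N ≤ 2 * (Nat.card φ₁.range * Nat.card φ₂.range) := Nat.mul_le_mul_left 2 hle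
          _ = (2 * Nat.card φ₁.range) * Nat.card φ₂.range := by ring
          _ ≤ _ := (Nat.mul_le_mul (B1 hall.1 h) A2).trans hmul
      · calc 2 * Nat.card N ≤ 2 * (Nat.card φ₁.range * Nat.card φ₂.range) := Nat.mul_le_mul_left 2 hle
          _ = Nat.card φ₁.range * (2 * Nat.card φ₂.range) := by ring
          _ ≤ _ := (Nat.mul_le_mul A1 (B2 hall.2 h)).trans hmul
    · let χ : φ₁.range × φ₂.range →* ℤˣ :=
        (Equiv.Perm.sign.comp φ₁.range.subtype).coprod (Equiv.Perm.sign.comp φ₂.range.subtype)
      have hker : M.range ≤ χ.ker := by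
        rintro _ ⟨g, rfl⟩
        rw [MonoidHom.mem_ker]
        show Equiv.Perm.sign (φ₁ g) * Equiv.Perm.sign (φ₂ g) = 1
        rw [← Equiv.Perm.sign_subtypeCongr (φ₁ g) (φ₂ g)]
        refine Eq.trans (congrArg Equiv.Perm.sign ?_) (hev g g.2)
        ext y
        by_cases hy : p y <;>
          simp [Equiv.Perm.subtypeCongr, Equiv.sumCompl, hy, φ₁, φ₂]
      have htop : χ.range = ⊤ := by
        rw [eq_top_iff]
        intro s _
        rcases Int.units_eq_one_or s with rfl | rfl
        · exact one_mem _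
        · rw [not_and_or] at hall
          rcases hall with h | h <;> push Not at h <;> obtain ⟨x, hx, hxs⟩ := h
          · exact ⟨(⟨x, hx⟩, 1), by simp [χ, (Int.units_eq_one_or _).resolve_left hxs]⟩
          · exact ⟨(1, ⟨x, hx⟩), by simp [χ, (Int.units_eq_one_or _).resolve_left hxs]⟩
      have hc := χ.ker.card_mul_index
      rw [Subgroup.index_ker, htop, Subgroup.card_top, Nat.card_eq_fintype_card (α := ℤˣ),
        Fintype.card_units_int, Nat.card_prod] at hc
      have hN : Nat.card N ≤ Nat.card χ.ker := by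
        rw [Nat.card_congr (MonoidHom.ofInjective hMinj).toEquiv]
        exact Subgroup.card_le_of_le hker
      calc 2 * Nat.card N ≤ Nat.card φ₁.range * Nat.card φ₂.range := by omega
        _ ≤ _ := (Nat.mul_le_mul A1 A2).trans hmul
  · obtain ⟨S1, T1⟩ := C1 (Odd.of_dvd_nat hodd (Subgroup.card_range_dvd φ₁))
    obtain ⟨S2, T2⟩ := C2 (Odd.of_dvd_nat hodd (Subgroup.card_range_dvd φ₂))
    refine ⟨?_, fun h16 => ?_⟩
    · calc Nat.card N ^ 2 ≤ (Nat.card φ₁.range * Nat.card φ₂.range) ^ 2 := Nat.pow_le_pow_left hle 2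
        _ = Nat.card φ₁.range ^ 2 * Nat.card φ₂.range ^ 2 := by ring
        _ ≤ 3 ^ (n₁ - 1) * 3 ^ (n₂ - 1) := Nat.mul_le_mul S1 S2
        _ ≤ 3 ^ (n - 1) := by rw [← pow_add]; exact Nat.pow_le_pow_right (by omega) (by omega)
    · calc Nat.card N ≤ Nat.card φ₁.range * Nat.card φ₂.range := hle
        _ ≤ oddTable n₁ * oddTable n₂ := Nat.mul_le_mul (T1 (by omega)) (T2 (by omega))
        _ ≤ oddTable (n₁ + n₂) := oddTable_mul (by omega)
        _ = oddTable n := by rw [hsum]

theorem perm_bound {n : ℕ} (hn : n % 4 ≠ 3) (N : Subgroup (Perm (Fin n))) (hN : Group.IsNilpotent N)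
    (P : Sylow 2 (Perm (Fin n))) : Nat.card N ≤ Nat.card P := by
  haveI : Fact (Nat.Prime 2) := ⟨Nat.prime_two⟩
  have h := (good n (Fintype.card_fin n) N hN).1
  rw [bound_eq hn] at h
  refine h.trans (le_of_eq ?_)
  rw [P.card_eq_multiplicity, Nat.card_perm, Nat.card_fin, Nat.factorization_def _ Nat.prime_two]

theorem alt_bound {n : ℕ} (hn : n % 4 ≠ 3) (h5 : n ≠ 5) (h6 : n ≠ 6) (h9 : n ≠ 9)
    (N : Subgroup (alternatingGroup (Fin n))) (hN : Group.IsNilpotent N)
    (P : Sylow 2 (alternatingGroup (Fin n))) : Nat.card N ≤ Nat.card P := by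
  haveI : Fact (Nat.Prime 2) := ⟨Nat.prime_two⟩
  by_cases h2g : IsPGroup 2 N
  · obtain ⟨Q, hQ⟩ := h2g.exists_le_sylow
    exact (Subgroup.card_le_of_le hQ).trans (le_of_eq (by
      show Nat.card Q = Nat.card P
      rw [Q.card_eq_multiplicity, P.card_eq_multiplicity]))
  have hn2 : 2 ≤ n := by
    by_contra h
    haveI : Subsingleton (Fin n) := Fin.subsingleton_iff_le_one.mpr (by omega)
    exact h2g (fun g => ⟨0, by simp [Subsingleton.elim g 1]⟩)
  haveI : Nontrivial (Fin n) := Fin.nontrivial_iff_two_le.mpr hn2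
  set N' := N.map (alternatingGroup (Fin n)).subtype
  have hc : Nat.card N' = Nat.card N :=
    Subgroup.card_map_of_injective (alternatingGroup (Fin n)).subtype_injective
  haveI := hN
  have hN' : Group.IsNilpotent N' :=
    Group.nilpotent_of_mulEquiv (N.equivMapOfInjective _ (alternatingGroup (Fin n)).subtype_injective)
  obtain ⟨-, he, ho⟩ := good n (Fintype.card_fin n) N' hN'
  rw [hc] at he ho
  rw [bound_eq hn] at he
  have hev : ∀ g ∈ N', Equiv.Perm.sign g = 1 := by
    rintro _ ⟨g, -, rfl⟩
    exact g.2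
  have hP : 2 * Nat.card P = 2 ^ v2f n := by
    have hA : 2 * Nat.card (alternatingGroup (Fin n)) = n.factorial := by
      have := two_mul_card_alternatingGroup (α := Fin n)
      rw [← Nat.card_eq_fintype_card] at this
      rw [this, Fintype.card_perm, Fintype.card_fin]
    rw [P.card_eq_multiplicity, v2f, ← Nat.factorization_def _ Nat.prime_two, ← hA,
      Nat.factorization_mul two_ne_zero Nat.card_pos.ne', Finsupp.add_apply,
      Nat.prime_two.factorization_self, pow_add, pow_one]
  have key : 2 * Nat.card N ≤ 2 ^ v2f n := by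
    by_cases hpar : 2 ∣ Nat.card N
    · exact he hev hpar
    · obtain ⟨hs, ht⟩ := ho (Nat.not_even_iff_odd.mp (by rwa [even_iff_two_dvd]))
      by_cases h16 : n < 16
      · exact (Nat.mul_le_mul_left 2 (ht h16)).trans (oddTable_half h16 hn2 hn h5 h6 h9)
      · exact half_of_sq (by omega) hs
  omega

end CfsgLib.NilPerm
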